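import Groth.Agent.IsoAutLib.DoubleMap
import Groth.Agent.ASt.InertiaDiag
import Groth.Agent.ASt.RepDesc
import Groth.Agent.IsoSmLib.Lift
/-!
The fibres of the inertia are the automorphism groups of the values of functors out of slices.
-/

set_option autoImplicit false
set_option backward.isDefEq.respectTransparency false
set_option backward.isDefEq.respectTransparency.types false
set_option linter.unusedSectionVars false

universe u

open CategoryTheory CategoryTheory.Limits AlgebraicGeometry Opposite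

namespace Groth.Agent.IsoInertiaLib

open Groth.Agent.ASt Groth.Agent.IsoAutLib

variable {S : Scheme.{u}} {𝒳 : AlgSt.Cat S} [h𝒳 : FibCat.IsFibGrpd 𝒳.p] {U : Over S}
  {y : FibCat.overCat U ⥤ᵇ 𝒳}

variable (𝒳) in
/-- The inertia over the base scheme. -/
abbrev ι : FibCat.inertia (FibCat.toSelf 𝒳) ⥤ᵇ 𝒳 := FibCat.inertiaToBase (FibCat.toSelf 𝒳)

instance isFibGrpd_inertia_toSelf : FibCat.IsFibGrpd (FibCat.inertia (FibCat.toSelf 𝒳)).p :=
  isFibGrpd_inertia _

instance isFibGrpd_fp_ι : FibCat.IsFibGrpd (FibCat.fp y (ι 𝒳)).p := isFibGrpd_fp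

/-- The object of the inertia of an automorphism. -/
noncomputable def autObj {T : Over S} {g : T ⟶ U} (σ : AutG y g) : (FibCat.inertia (FibCat.toSelf 𝒳)).obj :=
  ⟨y.obj (ov g), asIso σ.hom, σ.vert⟩

theorem autObj_base {T : Over S} {g : T ⟶ U} (σ : AutG y g) :
    (FibCat.inertia (FibCat.toSelf 𝒳)).p.obj (autObj σ) = T :=
  (y.w_obj _).trans (ov_base _)

/-- The section of the fibre of the inertia given by an automorphism. -/
noncomputable def autEl {T : Over S} {g : T ⟶ U} (σ : AutG y g) :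
    ClType (FibCat.fp y (ι 𝒳)) T :=
  fpEl g (autObj σ) (autObj_base σ) (𝟙 _) (𝒳.p.map_id _)

theorem fpHom_autEl {T : Over S} {g : T ⟶ U} (σ : AutG y g) : fpHom (autEl σ) = g := fpHom_fpEl _ _ _ _ _

theorem exists_autEl {T : Over S} {g : T ⟶ U} (c : ClType (FibCat.fp y (ι 𝒳)) T) (hc : fpHom c = g) :
    ∃ σ : AutG y g, c = autEl σ := by
  obtain ⟨k, o, ho, φ, hφ, rfl⟩ := fpEl_exists c
  rw [fpHom_fpEl] at hc
  subst hc
  haveI : IsIso φ := isIso_of_vert φ hφ
  let σ : AutG y k := ⟨φ ≫ o.aut.hom ≫ inv φ, by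
    have : 𝒳.p.map o.aut.hom = 𝟙 _ := o.map_aut
    rw [Functor.map_comp, Functor.map_comp, Functor.map_inv, this]
    erw [Category.id_comp]
    exact IsIso.hom_inv_id _⟩
  have hm : (autObj σ).aut.hom ≫ φ = φ ≫ o.aut.hom := by
    change (φ ≫ o.aut.hom ≫ inv φ) ≫ φ = φ ≫ o.aut.hom
    simp only [Category.assoc, IsIso.inv_hom_id]
    erw [Category.comp_id]
  refine ⟨σ, Eq.symm ?_⟩
  refine fpEl_eq_iff.2 ⟨(FibCat.InertiaObj.Hom.mk φ hm : autObj σ ⟶ o), hφ.trans rfl, ?_⟩
  exact Category.id_comp φ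

theorem autEl_injective {T : Over S} {g : T ⟶ U} {σ σ' : AutG y g} (h : autEl σ = autEl σ') : σ = σ' := by
  obtain ⟨a, -, ha⟩ := fpEl_eq_iff.1 h
  have e : a.hom = 𝟙 (y.obj (ov g)) := (Category.id_comp _).symm.trans ha
  have := a.comm
  rw [e] at this
  exact AutG.ext ((Category.comp_id σ.hom).symm.trans (this.trans (Category.id_comp σ'.hom)))

theorem clMap_autEl {T T' : Over S} {g : T ⟶ U} {g' : T' ⟶ U} (h : T' ⟶ T) (e : h ≫ g = g') (σ : AutG y g) :
    clMap h (autEl σ) = autEl (AutG.res h e σ) :=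
  clMap_fpEl h e (FibCat.InertiaObj.Hom.mk (y.map (ovHom h e)) (AutG.res_comp h e σ) :
      autObj (AutG.res h e σ) ⟶ autObj σ)
    ((Category.comp_id _).trans (Category.id_comp _).symm)

end Groth.Agent.IsoInertiaLib
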