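import Groth.Agent.IsoInertiaLib.Inertia
import Groth.Agent.IsoNatClean.Transfer
import Groth.Agent.DecSec.DvrCrit2
import Groth.Agent.S10327
import Groth.Agent.S10536
import Groth.Agent.ASp.MorCancel
import Mathlib.RingTheory.DiscreteValuationRing.Basic
/-!
Proper inertia read on discrete valuation rings doubled at their generic points.
-/

set_option autoImplicit false
set_option backward.isDefEq.respectTransparency false
set_option backward.isDefEq.respectTransparency.types false
set_option linter.unusedSectionVars false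

universe u

open CategoryTheory CategoryTheory.Limits AlgebraicGeometry Opposite

namespace Groth.Agent.IsoInertiaLib

open _root_.AlgSp Groth.Agent.ASt Groth.Agent.IsoAutLib Groth.Agent.ASp

theorem isLocalization_away_of_irreducible {A K : Type u} [CommRing A] [IsDomain A] [IsDiscreteValuationRing A]
    [Field K] [Algebra A K] [IsFractionRing A K] {ϖ : A} (hϖ : Irreducible ϖ) : IsLocalization.Away ϖ K := by
  refine (IsLocalization.iff_of_le_of_exists_dvd (Submonoid.powers ϖ) (nonZeroDivisors A) ?_ fun n hn => ?_).2 ‹_›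
  · rw [Submonoid.powers_le]
    exact mem_nonZeroDivisors_of_ne_zero hϖ.ne_zero
  · obtain ⟨k, hk⟩ := IsDiscreteValuationRing.associated_pow_irreducible (nonZeroDivisors.ne_zero hn) hϖ
    exact ⟨ϖ ^ k, ⟨k, rfl⟩, hk.dvd⟩

theorem isOpenImmersion_generic (A K : Type u) [CommRing A] [IsDomain A] [IsDiscreteValuationRing A]
    [Field K] [Algebra A K] [IsFractionRing A K] :
    IsOpenImmersion (Spec.map (CommRingCat.ofHom (algebraMap A K))) := by
  obtain ⟨ϖ, hϖ⟩ := IsDiscreteValuationRing.exists_irreducible A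
  haveI := isLocalization_away_of_irreducible (K := K) hϖ
  exact IsOpenImmersion.of_isLocalization ϖ

variable {S : Scheme.{u}} {𝒳 𝒴 : AlgSt.Cat S} [h𝒳 : FibCat.IsFibGrpd 𝒳.p] [h𝒴 : FibCat.IsFibGrpd 𝒴.p]

/-- A scheme doubled along the image of an open immersion. -/
noncomputable def dblAlong {V B : Over S} (j : V ⟶ B) [IsOpenImmersion j.left] : Doubled B :=
  Doubled.of B (𝟙 B) j.left.opensRange

/-- Classes on the double trivial on both sheets are trivial. -/
def TrivDouble {B : Over S} (D : Doubled B) (e : ClType 𝒳 B) : Prop :=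
  ∀ z : ClType 𝒳 D.X, (∀ s, clMap (D.i s) z = clMap D.r e) → z = clMap D.ρ e

theorem trivDouble_iff (φ : IsoNat.FIso 𝒳 𝒴) {B : Over S} (D : Doubled B) (e : ClType 𝒳 B) :
    TrivDouble D e ↔ TrivDouble D (show ClType 𝒴 B from φ.toEquiv B e) := by
  constructor
  · intro h z hz
    obtain ⟨x, rfl⟩ := (φ.toEquiv _).surjective z
    simp only [← IsoNatClean.toEquiv_clMap φ] at hz ⊢
    exact congrArg (φ.toEquiv _) (h x fun s => (φ.toEquiv _).injective (hz s))
  · intro h z hz
    refine (φ.toEquiv _).injective ((h _ fun s => ?_).trans (IsoNatClean.toEquiv_clMap φ _ e).symm)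
    rw [← IsoNatClean.toEquiv_clMap φ, ← IsoNatClean.toEquiv_clMap φ, hz s]

variable (hst : Stk.IsStack (AlgSp.J S) 𝒳)

include hst in
/-- Classes are trivial exactly when automorphisms extend. -/
theorem trivDouble_iff_surjective {V B : Over S} (j : V ⟶ B) [IsOpenImmersion j.left]
    {y : FibCat.overCat B ⥤ᵇ 𝒳} :
    TrivDouble (dblAlong j) (Doubled.base0 y) ↔
      Function.Surjective (AutG.res (y := y) j (Category.comp_id j)) := by
  let D := dblAlong j
  let lV : V ⟶ D.Wo := D.liftW j (le_refl _)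
  let lW : D.Wo ⟶ V := Over.homMk (IsOpenImmersion.lift j.left D.W.ι (by
    rintro _ ⟨w, rfl⟩
    exact w.2)) (by
    change _ = D.W.ι ≫ B.hom
    rw [← Over.w j, IsOpenImmersion.lift_fac_assoc])
  have hV : lV ≫ D.ιW = j := D.liftW_fac j _
  have hW : lW ≫ j = D.ιW := Over.OverMorphism.ext (IsOpenImmersion.lift_fac _ _ _)
  constructor
  · intro h σ
    let c : AutG y (D.ιW ≫ D.r) := AutG.res lW (by rw [← hW, Category.assoc]; exact congrArg (lW ≫ ·) (Category.comp_id j).symm) σ
    obtain ⟨P⟩ := D.exists_twisted c hst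
    have he : P.el = (Doubled.oneTwisted D y).el :=
      (h P.el fun s => Doubled.clMap_i_el P s).trans Doubled.oneTwisted_el.symm
    obtain ⟨a, b, hab⟩ := (Doubled.el_eq_iff hst P _).1 he
    rw [mul_one] at hab
    have hc : c = AutG.res D.ιW rfl (a * b⁻¹) := by
      rw [AutG.res_mul, AutG.res_inv, ← hab, mul_inv_cancel_right]
    refine ⟨a * b⁻¹, ?_⟩
    have h1 : AutG.res lV (show lV ≫ D.ιW ≫ D.r = j by rw [← Category.assoc, hV]; exact Category.comp_id j) c = σ := by
      rw [AutG.res_res]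
      have : lV ≫ lW = 𝟙 V := by
        haveI : Mono j := Over.mono_of_mono_left j
        rw [← cancel_mono j, Category.assoc, hW, hV, Category.id_comp]
      rw [AutG.res_congr this]
      exact AutG.res_id σ
    rw [← h1, hc, AutG.res_res]
    exact (AutG.res_congr hV _ _).symm
  · intro h z hz
    obtain ⟨c, P, rfl⟩ := Doubled.exists_twisted_el z hz
    obtain ⟨a, ha⟩ := h (AutG.res lV (show lV ≫ D.ιW ≫ D.r = j by rw [← Category.assoc, hV]; exact Category.comp_id j) c)
    rw [← Doubled.oneTwisted_el]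
    refine (Doubled.el_eq_iff hst P _).2 ⟨a, 1, ?_⟩
    rw [AutG.res_one, mul_one, mul_one]
    have e := congrArg (AutG.res (k' := D.ιW ≫ D.r) lW (by rw [← hW, Category.assoc]; exact congrArg (lW ≫ ·) (Category.comp_id j).symm)) ha
    rw [AutG.res_res, AutG.res_res] at e
    have e' : lW ≫ lV = 𝟙 _ := by rw [← cancel_mono D.ιW, Category.assoc, hV, hW, Category.id_comp]
    rw [AutG.res_congr e', AutG.res_congr hW] at e
    exact (AutG.res_id c).symm.trans e.symm

/-- An automorphism of a value of a functor composed with a map of slices. -/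
def castG {U W : Over S} (g : U ⟶ W) {a : FibCat.overCat W ⥤ᵇ 𝒳} {T : Over S} {k : T ⟶ U}
    (σ : AutG (BasedFunctor.comp (AlgSt.overMap g) a) k) : AutG a (k ≫ g) :=
  ⟨σ.hom, σ.vert⟩

theorem res_castG {U W : Over S} (g : U ⟶ W) {a : FibCat.overCat W ⥤ᵇ 𝒳} {T T' : Over S} {k : T ⟶ U}
    {k' : T' ⟶ U} (h : T' ⟶ T) (e : h ≫ k = k') (σ : AutG (BasedFunctor.comp (AlgSt.overMap g) a) k) :
    castG g (AutG.res h e σ) = AutG.res h (by rw [← e, Category.assoc]) (castG g σ) :=
  AutG.eq_res _ _ _ _ (AutG.res_comp h e σ)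

variable (hpr : AlgSt.RepByAlgSpWith IsProperMor (ι 𝒳))

include hpr in
/-- Proper inertia: automorphisms extend over discrete valuation rings. -/
theorem surjective_res_of_proper (A K : Type u) [CommRing A] [IsDomain A] [IsDiscreteValuationRing A]
    [Field K] [Algebra A K] [IsFractionRing A K] (str : Spec (CommRingCat.of A) ⟶ S)
    (y : FibCat.overCat (Over.mk str) ⥤ᵇ 𝒳) :
    Function.Surjective (AutG.res (y := y)
      (Over.homMk (Spec.map (CommRingCat.ofHom (algebraMap A K))) rfl :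
        Over.mk (Spec.map (CommRingCat.ofHom (algebraMap A K)) ≫ str) ⟶ Over.mk str) (Category.comp_id _)) := by
  intro σ
  obtain ⟨hs, hA, hP⟩ := (repByAlgSpWith_iff.1 hpr).2 (Over.mk str) y
  let P : Sp S := ⟨fib y (ι 𝒳), hs⟩
  let π : P ⟶ (yon S).obj (Over.mk str) := ObjectProperty.homMk (fibπ y (ι 𝒳))
  let j : Over.mk (Spec.map (CommRingCat.ofHom (algebraMap A K)) ≫ str) ⟶ Over.mk str :=
    Over.homMk (Spec.map (CommRingCat.ofHom (algebraMap A K))) rfl
  let sq : ValSq π :=
    { A := A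
      K := K
      str := str
      top := IsoSmLib.homOf (autEl σ)
      bot := 𝟙 _
      comm := by
        refine IsoSmLib.secOf_injective ?_
        rw [IsoSmLib.secOf_comp, IsoSmLib.secOf_homOf, Category.comp_id]
        refine congrArg ULift.up ?_
        exact (fpHom_autEl σ).trans rfl }
  have hqs : IsQuasiSeparatedMor π :=
    repWith_mono (fun _ _ g (hg : IsClosedImmersion g) => inferInstanceAs (QuasiCompact g)) hP.1
  obtain ⟨-, hex⟩ := ((Groth.Agent.S10327.result (X := ⟨P, hA⟩) (Y := ⟨_, IsAlgSpace.yon_obj _⟩)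
    (ObjectProperty.homMk π) hP.2.1.2 hqs).2).1 ⟨hP.1, hP.2.2⟩
  obtain ⟨l, hl1, hl2⟩ := hex sq
  have h0 : fpHom (IsoSmLib.secOf l : ClType (FibCat.fp y (ι 𝒳)) (Over.mk str)) = 𝟙 _ := by
    have := congrArg IsoSmLib.secOf hl2
    exact congrArg ULift.down this
  obtain ⟨a, ha⟩ := exists_autEl _ h0
  refine ⟨a, autEl_injective ?_⟩
  rw [← clMap_autEl j (Category.comp_id j) a, ← ha]
  have h1 := congrArg IsoSmLib.secOf hl1
  rw [IsoSmLib.secOf_map] at h1
  exact h1.trans (IsoSmLib.secOf_homOf _)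

variable (hd : AlgSt.RepByAlgSpWith (AlgSp.IsSeparatedMor ⊓ AlgSp.IsQuasiCompactMor)
    (FibCat.diag (FibCat.toSelf 𝒳)))
  (hi : AlgSt.RepByAlgSpWith (AlgSp.LocP @LocallyOfFinitePresentation) (ι 𝒳))

include hd hi in
/-- Automorphisms extending over discrete valuation rings make the inertia proper over a Noetherian chart. -/
theorem fibHas_proper_of_surjective {W : Over S} [IsLocallyNoetherian W.left] (a : FibCat.overCat W ⥤ᵇ 𝒳)
    (h : ∀ (A K : Type u) [CommRing A] [IsDomain A] [IsDiscreteValuationRing A] [Field K] [Algebra A K]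
      [IsFractionRing A K] (str : Spec (CommRingCat.of A) ⟶ S) (y : FibCat.overCat (Over.mk str) ⥤ᵇ 𝒳),
      Function.Surjective (AutG.res (y := y)
        (Over.homMk (Spec.map (CommRingCat.ofHom (algebraMap A K))) rfl :
          Over.mk (Spec.map (CommRingCat.ofHom (algebraMap A K)) ≫ str) ⟶ Over.mk str) (Category.comp_id _))) :
    FibHas IsProperMor a (ι 𝒳) := by
  obtain ⟨hs, hA, hP⟩ := (repByAlgSpWith_iff.1 (repByAlgSpWith_inertiaToBase _ hd)).2 W a
  obtain ⟨hs', hA', hP'⟩ := (repByAlgSpWith_iff.1 hi).2 W a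
  let P : Sp S := ⟨fib a (ι 𝒳), hs⟩
  let π : P ⟶ (yon S).obj W := ObjectProperty.homMk (fibπ a (ι 𝒳))
  have hft : IsFiniteTypeMor π :=
    ⟨locP_mono (fun _ _ g (hg : LocallyOfFinitePresentation g) => inferInstanceAs (LocallyOfFiniteType g)) hP', hP.2⟩
  refine ⟨hs, hA, DecSec.isProperMor_of_dvr hA hA (IsAlgSpace.yon_obj W) ⟨W, 𝟙 _, repWith_id _ W, repWith_id _ W, inferInstance⟩ π hft hP.1 (𝟙 _)
    DecSec.isFiniteTypeMor_id (Function.Surjective.denseRange fun x => ⟨x, AlgSp.Points.map_id x⟩)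
    fun sq hdvr _ => DecSec.hasLiftExt_of_hasLift sq ?_⟩
  obtain ⟨g, hg⟩ := (yon S).map_surjective sq.bot
  let y : FibCat.overCat sq.ptA ⥤ᵇ 𝒳 := BasedFunctor.comp (AlgSt.overMap g) a
  have hc : fpHom (IsoSmLib.secOf sq.top : ClType (FibCat.fp a (ι 𝒳)) sq.ptK) = sq.j ≫ g := by
    have := congrArg IsoSmLib.secOf sq.comm
    rw [← hg, ← Functor.map_comp] at this
    exact (congrArg ULift.down this).trans (Category.id_comp (sq.j ≫ g) :)
  obtain ⟨σ, hσ⟩ := exists_autEl _ hc
  obtain ⟨b, hb⟩ := h sq.A sq.K sq.str y ⟨σ.hom, σ.vert⟩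
  let b' : AutG a g := AutG.res (𝟙 sq.ptA) (by simp) (castG g b)
  refine ⟨IsoSmLib.homOf (autEl b'), IsoSmLib.secOf_injective ?_, IsoSmLib.secOf_injective ?_⟩
  · rw [IsoSmLib.secOf_map, IsoSmLib.secOf_homOf, hσ]
    refine (clMap_autEl sq.j rfl b').trans (congrArg autEl ?_)
    rw [AutG.res_res, AutG.res_congr (Category.comp_id sq.j), ← res_castG g sq.j (Category.comp_id _) b]
    exact congrArg (castG g) hb
  · rw [IsoSmLib.secOf_comp, IsoSmLib.secOf_homOf, ← hg]
    exact congrArg ULift.up ((fpHom_autEl b').trans (Category.id_comp _).symm)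

end Groth.Agent.IsoInertiaLib
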