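import Groth.Agent.IsoInertiaLib.Dvr
/-!
Properness of the inertia is read off from the presheaf of classes over a locally Noetherian stack.
-/

set_option autoImplicit false
set_option backward.isDefEq.respectTransparency false
set_option backward.isDefEq.respectTransparency.types false
set_option linter.unusedSectionVars false

universe u

open CategoryTheory CategoryTheory.Limits AlgebraicGeometry Opposite

namespace Groth.Agent.IsoInertiaLib

open _root_.AlgSp Groth.Agent.ASt Groth.Agent.IsoAutLib Groth.Agent.ASp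

variable {S : Scheme.{u}} {𝒳 𝒴 : AlgSt.Cat S} [h𝒳 : FibCat.IsFibGrpd 𝒳.p] [h𝒴 : FibCat.IsFibGrpd 𝒴.p]

/-- Properness of the inertia is read off from the presheaf of classes. -/
theorem properInertia_of_fIso (φ : IsoNat.FIso 𝒳 𝒴) (hst : Stk.IsStack (AlgSp.J S) 𝒳)
    (hY : AlgSt.IsAlgStack Scheme.fppfPrecoverage 𝒴)
    (hd : AlgSt.RepByAlgSpWith (AlgSp.IsSeparatedMor ⊓ AlgSp.IsQuasiCompactMor)
      (FibCat.diag (FibCat.toSelf 𝒴)))
    (hi : AlgSt.RepByAlgSpWith (AlgSp.LocP @LocallyOfFinitePresentation) (ι 𝒴))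
    (hN : AlgSt.SmoothLocally (fun X => IsLocallyNoetherian X) 𝒴)
    (hpr : AlgSt.RepByAlgSpWith IsProperMor (ι 𝒳)) : AlgSt.RepByAlgSpWith IsProperMor (ι 𝒴) := by
  have hsurj : ∀ (A K : Type u) [CommRing A] [IsDomain A] [IsDiscreteValuationRing A] [Field K] [Algebra A K]
      [IsFractionRing A K] (str : Spec (CommRingCat.of A) ⟶ S) (y : FibCat.overCat (Over.mk str) ⥤ᵇ 𝒴),
      Function.Surjective (AutG.res (y := y)
        (Over.homMk (Spec.map (CommRingCat.ofHom (algebraMap A K))) rfl :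
          Over.mk (Spec.map (CommRingCat.ofHom (algebraMap A K)) ≫ str) ⟶ Over.mk str) (Category.comp_id _)) := by
    intro A K _ _ _ _ _ _ str y
    let j : Over.mk (Spec.map (CommRingCat.ofHom (algebraMap A K)) ≫ str) ⟶ Over.mk str :=
      Over.homMk (Spec.map (CommRingCat.ofHom (algebraMap A K))) rfl
    haveI : IsOpenImmersion j.left := isOpenImmersion_generic A K
    refine (trivDouble_iff_surjective hY.isStack j).1 ?_
    obtain ⟨e, he⟩ := (φ.toEquiv (Over.mk str)).surjective (Doubled.base0 y)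
    obtain ⟨x, hx, rfl⟩ := cl_exists e
    have hb : Doubled.base0 (objFun x hx) = cl x hx :=
      (clMap_cl_pull (𝟙 _) x hx).symm.trans (clMap_id _)
    have h1 := (trivDouble_iff_surjective hst j (y := objFun x hx)).2
      (surjective_res_of_proper hpr A K str (objFun x hx))
    rw [hb] at h1
    have h2 := (trivDouble_iff φ (dblAlong j) _).1 h1
    exact (congrArg (TrivDouble (dblAlong j)) he) ▸ h2
  have hrep : AlgSt.RepByAlgSp1 (ι 𝒴) := repByAlgSp1_of_with hi
  obtain ⟨W, a, ha, has⟩ := hY.atlas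
  haveI : IsLocallyNoetherian W.left := hN W a ha
  have h0 := fibHas_proper_of_surjective hd hi a hsurj
  refine repByAlgSpWith_iff.2 ⟨faithful_of_repByAlgSp1 hrep, fun U y => ?_⟩
  obtain ⟨V, l, u, hl, hls, ⟨β⟩⟩ := exists_overMap_iso ha has y
  haveI : Smooth l.left := hl
  haveI : Surjective l.left := hls
  have hP₂ : IsLocalOnBase IsFppfCover (IsProperMor : MorphismProperty (Sp S)) :=
    fun {ι'} {Y'} Yi g hY' hYi hτ => Groth.Agent.S10536.result S Yi g hY' hYi (isFpqcCover_of_fppf hY' hYi (fun i => (hτ.1 i).1) (fun i => (hτ.1 i).2) hτ.2)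
  refine fibHas_of_cover hP₂ hrep l y (fibHas_congr β.symm (fibHas_restr ?_ hrep u a h0))
  intro X₁ Y₁ X₂ Y₂ h1 h2 _ h4 _ _ _ _ sq hp
  exact proper_baseChange h1 h2 h4 sq hp

end Groth.Agent.IsoInertiaLib
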